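import Cfsg.Agent.H892.EP.Rows
import Cfsg.Agent.H129.CycCard
import Cfsg.Agent.H129.CycRow
import Cfsg.Agent.H722.RealP

/-!
# S4929: isolated cyclic tori (helper56)

* `isCyclic_sylow` : `CycCard` gives cyclic Sylow subgroups;
* `evAt_of_cycCard` : together with a real element of order `p` the row of S4929.
-/

set_option autoImplicit false

open Cfsg Cfsg.Agent.H892.EP

namespace Cfsg.Agent.H56.EP

universe u

theorem isCyclic_sylow {G : Type u} [Group G] [Finite G] {r m d : ℕ} (hr : r.Prime)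
    (h : Cfsg.Agent.H129.CycCard.CycCard G r m d) (P : Sylow r G) : IsCyclic ↥(P : Subgroup G) := by
  have : Fact r.Prime := ⟨hr⟩
  obtain ⟨T, h1, -, -, h4, h5⟩ := h
  by_cases hP : (P : Subgroup G) = ⊥
  · rw [hP]
    infer_instance
  have hnt : Nontrivial ↥(P : Subgroup G) := (Subgroup.nontrivial_iff_ne_bot _).2 hP
  have hZ : Nontrivial ↥(Subgroup.center ↥(P : Subgroup G)) := P.2.center_nontrivial
  have hZp : IsPGroup r ↥(Subgroup.center ↥(P : Subgroup G)) := P.2.to_subgroup _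
  obtain ⟨z, hz⟩ : ∃ z : ↥(Subgroup.center ↥(P : Subgroup G)), orderOf z = r := by
    refine exists_prime_orderOf_dvd_card' r ?_
    obtain ⟨n, hn0, hn⟩ := (hZp.nontrivial_iff_card).1 hZ
    rw [hn]
    exact dvd_pow_self r hn0.ne'
  have hzr : orderOf ((z : ↥(P : Subgroup G)) : G) = r := by
    rw [Subgroup.orderOf_coe, Subgroup.orderOf_coe, hz]
  obtain ⟨g, -, hg⟩ := Cfsg.Agent.H129.CycT.centralizer_conj h1 hr h4 h5 hzr
  have hle : ∀ x : ↥(P : Subgroup G), g * x * g⁻¹ ∈ T := fun x => (hg x).1 (by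
    rw [Subgroup.mem_centralizer_singleton_iff]
    exact congrArg Subtype.val (Subgroup.mem_center_iff.1 z.2 x))
  let f : ↥(P : Subgroup G) →* ↥T := MonoidHom.codRestrict
    ((MulAut.conj g).toMonoidHom.comp (P : Subgroup G).subtype) T hle
  have hf : Function.Injective f := by
    intro x y hxy
    have h6 : g * x * g⁻¹ = g * y * g⁻¹ := congrArg Subtype.val hxy
    exact Subtype.ext (mul_left_cancel (mul_right_cancel h6))
  exact isCyclic_of_injective f hf

theorem evAt_of_cycCard {G : Type u} [Group G] [Finite G] {p m d : ℕ} [Fact p.Prime] (hp2 : p ≠ 2)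
    (h : Cfsg.Agent.H129.CycCard.CycCard G p m d) (hr : Cfsg.Agent.H722.RealP.HasReal p G) : EvAt p G := by
  obtain ⟨x, t, hx, -, ht⟩ := hr
  exact evAt_of_real_cyclic hp2 (isCyclic_sylow Fact.out h) hx (isConj_iff.2 ⟨t, ht⟩)

end Cfsg.Agent.H56.EP
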