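import Cfsg.Agent.H56.EP.Cyc
import Cfsg.Agent.H720.RowTriD4
import Cfsg.Agent.S1067

/-!
# S4929: the remaining primes of `³D₄(q)` (helper56)
-/

set_option autoImplicit false

open Cfsg Cfsg.Agent.H892.EP

namespace Cfsg.Agent.H56.EP

/-- `d = ord_p(q) = 12` -/
theorem rest_td4 (F : Type) [Field F] [Fintype F] (q : ℕ) (hq : IsPrimePow q) (hF : Fintype.card F = q ^ 3) (_ho : Odd q)
    (p : ℕ) [Fact p.Prime] (hp : p ≠ 2) (h0 : ¬ p ∣ q) (h : ¬ p ∣ q ^ 6 - 1)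
    (hd : p ∣ Nat.card (Lie.twistedD4 F q)) : EvAt p (Lie.twistedD4 F q) := by
  have hpp : p.Prime := Fact.out
  have hreal := Cfsg.Agent.H720.RowTriD4.row hq hF hpp h0 hd
  have hq1 : 1 ≤ q := hq.pos
  have hc := Cfsg.Agent.S1067.result hq hF
  rw [hc] at hd
  have hcast : ∀ k : ℕ, ((q ^ k - 1 : ℕ) : ℤ) = (q : ℤ) ^ k - 1 := fun k => by
    rw [Nat.cast_sub (Nat.one_le_pow _ _ hq1)]; push_cast; ring
  have h6z : ¬ (p : ℤ) ∣ (q : ℤ) ^ 6 - 1 := by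
    rw [← hcast]
    exact fun h1 => h (Int.natCast_dvd_natCast.1 h1)
  have hpz : Prime (p : ℤ) := Nat.prime_iff_prime_int.1 hpp
  have key : (p : ℤ) ∣ 1 - (q : ℤ) ^ 2 + (q : ℤ) ^ 4 := by
    have h1 := Int.natCast_dvd_natCast.2 hd
    push_cast [hcast] at h1
    rcases hpz.dvd_or_dvd h1 with h2 | h2
    · rcases hpz.dvd_or_dvd h2 with h3 | h3
      · rcases hpz.dvd_or_dvd h3 with h4 | h4
        · exact absurd (Int.natCast_dvd_natCast.1 (hpz.dvd_of_dvd_pow h4)) h0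
        · exact absurd (h4.trans ⟨(q : ℤ) ^ 4 + (q : ℤ) ^ 2 + 1, by ring⟩) h6z
      · exact absurd h3 h6z
    · have h3 : (p : ℤ) ∣ (1 - (q : ℤ) ^ 2 + (q : ℤ) ^ 4) * ((q : ℤ) ^ 4 + (q : ℤ) ^ 2 + 1) := by
        refine h2.trans (dvd_of_eq (by ring))
      rcases hpz.dvd_or_dvd h3 with h4 | h4
      · exact h4
      · exact absurd (h4.trans ⟨(q : ℤ) ^ 2 - 1, by ring⟩) h6z
  obtain ⟨m, hm⟩ : ∃ m : ℕ, (m : ℤ) = 1 - (q : ℤ) ^ 2 + (q : ℤ) ^ 4 :=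
    ⟨(1 - (q : ℤ) ^ 2 + (q : ℤ) ^ 4).toNat, Int.toNat_of_nonneg (by nlinarith [sq_nonneg ((q : ℤ) ^ 2 - 1), sq_nonneg (q : ℤ)])⟩
  exact evAt_of_cycCard hp (Cfsg.Agent.H129.CycCard.card_tD4_12 hq hF hm hpp key) hreal

end Cfsg.Agent.H56.EP
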